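import Groth.Agent.Lib.PosLin.AsympRank

/-!
# Bounds for the cohomology of several twists at once

`dim H^i(L₁^{a₁} ⊗ ⋯ ⊗ L_s^{a_s} ⊗ F) = O((1 + Σ a_j)^{r-1})` for `F` with support of dimension `< r`.
-/

set_option autoImplicit false
set_option linter.style.haveILetI false
set_option linter.unusedSectionVars false
universe u

open CategoryTheory CategoryTheory.Limits AlgebraicGeometry Filter

namespace Groth.Agent.Lib.MultiBound96

open Groth.Agent.Lib Groth.Agent.Lib.Snapper Groth.Agent.Lib.PosLin Groth.Agent.Lib.PosLin.CohBound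
open Groth.Agent.Lib.TensorMod.Basic (comm assoc tensorIso leftUnit rightUnit)
open Groth.Agent.Lib.TensorMod.Invertible (isInvertible_tensorPow isInvertible_tensorMod)
open Groth.Agent.Lib.PosLin.SectionBound (isCoh_twist_right)

section Algebra

variable {X : Scheme.{u}}

theorem exists_tensorList_append : ∀ l l' : List X.Modules,
    Nonempty (FGA.tensorList (l ++ l') ≅ CohB1.tensorMod (FGA.tensorList l) (FGA.tensorList l'))
  | [], l' => ⟨(leftUnit _).symm⟩
  | M :: l, l' => by
    obtain ⟨e⟩ := exists_tensorList_append l l'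
    exact ⟨tensorIso (Iso.refl M) e ≪≫ (assoc _ _ _).symm⟩

theorem exists_powStructure : ∀ m : ℕ,
    Nonempty (CohB1.tensorPow (Coh.structureModule X) m ≅ Coh.structureModule X)
  | 0 => ⟨Iso.refl _⟩
  | m + 1 => by
    obtain ⟨e⟩ := exists_powStructure m
    exact ⟨tensorIso e (Iso.refl _) ≪≫ leftUnit _⟩

theorem exists_pow_tensorList (m : ℕ) : ∀ l : List X.Modules,
    Nonempty (CohB1.tensorPow (FGA.tensorList l) m ≅ FGA.tensorList (l.map fun M => CohB1.tensorPow M m))
  | [] => exists_powStructure m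
  | M :: l => by
    obtain ⟨e⟩ := exists_pow_tensorList m l
    exact ⟨Ample.Pow.powTensor _ _ m ≪≫ tensorIso (Iso.refl _) e⟩

theorem exists_tensorList_map_congr {α : Type} {f g : α → X.Modules} (h : ∀ a, Nonempty (f a ≅ g a)) :
    ∀ l : List α, Nonempty (FGA.tensorList (l.map f) ≅ FGA.tensorList (l.map g))
  | [] => ⟨Iso.refl _⟩
  | a :: l => by
    obtain ⟨e⟩ := exists_tensorList_map_congr h l
    exact ⟨tensorIso (h a).some e⟩

theorem exists_pow_multiTwist {s : ℕ} (L : Fin s → X.Modules) (a : Fin s → ℕ) (m : ℕ) :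
    Nonempty (CohB1.tensorPow (FGA.multiTwist L a) m ≅ FGA.multiTwist L (fun j => a j * m)) := by
  obtain ⟨e⟩ := exists_pow_tensorList m ((List.finRange s).map fun i => CohB1.tensorPow (L i) (a i))
  obtain ⟨e'⟩ := exists_tensorList_map_congr (f := fun i => CohB1.tensorPow (CohB1.tensorPow (L i) (a i)) m)
    (g := fun i => CohB1.tensorPow (L i) (a i * m)) (fun i => ⟨Ample.Pow.powMul (L i) (a i) m⟩) (List.finRange s)
  exact ⟨e ≪≫ eqToIso (by rw [List.map_map]; rfl) ≪≫ e'⟩

/-- Raising one exponent. -/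
theorem exists_multiTwist_bump {s : ℕ} (L : Fin s → X.Modules) (a : Fin s → ℕ) (j : Fin s) (e : ℕ) :
    Nonempty (FGA.multiTwist L (Function.update a j (a j + e)) ≅
      CohB1.tensorMod (CohB1.tensorPow (L j) e) (FGA.multiTwist L a)) := by
  classical
  have hp : (List.finRange s).Perm (j :: (List.finRange s).erase j) :=
    List.perm_cons_erase (List.mem_finRange j)
  let a' := Function.update a j (a j + e)
  let f : Fin s → X.Modules := fun i => CohB1.tensorPow (L i) (a i)
  let g : Fin s → X.Modules := fun i => CohB1.tensorPow (L i) (a' i)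
  obtain ⟨p⟩ := IntNum.tensorList_perm (hp.map f)
  obtain ⟨q⟩ := IntNum.tensorList_perm (hp.map g)
  have hrest : ((List.finRange s).erase j).map g = ((List.finRange s).erase j).map f := by
    refine List.map_congr_left fun i hi => ?_
    have hne : i ≠ j := fun h => (List.nodup_finRange s).not_mem_erase (h ▸ hi)
    simp [f, g, a', Function.update_of_ne hne]
  have hj : g j = CohB1.tensorPow (L j) (a j + e) := by simp [g, a']
  exact ⟨q ≪≫ eqToIso (by rw [List.map_cons, hrest, hj]; rfl) ≪≫
    (tensorIso (Ample.Pow.powCongr (L j) (Nat.add_comm (a j) e) ≪≫ Ample.Pow.powAdd (L j) e (a j))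
      (Iso.refl (FGA.tensorList (((List.finRange s).erase j).map f))) ≪≫ assoc _ _ _) ≪≫
    tensorIso (Iso.refl _) p.symm⟩

end Algebra

variable {k : Type u} [Field k] {X : Scheme.{u}} [X.Over (Spec (CommRingCat.of k))]
  [IsProper (X ↘ Spec (CommRingCat.of k))]

/-- The arithmetic recursion. -/
theorem rec_bound {s : ℕ} {P : (Fin s → ℕ) → ℕ} {e : Fin s → ℕ} (he : ∀ j, 0 < e j) {g t : ℕ}
    (h : ∀ a j, P (Function.update a j (a j + e j)) ≤ P a + g * ((∑ i, a i) + e j + 1) ^ t) :
    ∃ B, ∀ a, P a ≤ B + g * (∑ i, a i) * ((∑ i, a i) + 1) ^ t := by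
  classical
  refine ⟨∑ b ∈ Fintype.piFinset (fun j => Finset.range (e j)), P b, fun a => ?_⟩
  induction hn : ∑ i, a i using Nat.strong_induction_on generalizing a with
  | _ n ih =>
    subst hn
    by_cases hsmall : ∀ j, a j < e j
    · exact (Finset.single_le_sum (fun b _ => Nat.zero_le (P b))
        (Fintype.mem_piFinset.2 fun j => Finset.mem_range.2 (hsmall j))).trans (Nat.le_add_right _ _)
    push Not at hsmall
    obtain ⟨j, hj⟩ := hsmall
    set b := Function.update a j (a j - e j) with hb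
    have hab : Function.update b j (b j + e j) = a := by
      rw [hb, Function.update_self, Function.update_idem, Nat.sub_add_cancel hj, Function.update_eq_self]
    have hsum : (∑ i, b i) + e j = ∑ i, a i := by
      rw [← Finset.add_sum_erase _ _ (Finset.mem_univ j), ← Finset.add_sum_erase _ a (Finset.mem_univ j)]
      have : ∑ i ∈ Finset.univ.erase j, b i = ∑ i ∈ Finset.univ.erase j, a i :=
        Finset.sum_congr rfl fun i hi => Function.update_of_ne (Finset.ne_of_mem_erase hi) _ _
      rw [this, show b j = a j - e j from Function.update_self _ _ _]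
      omega
    have h1 := h b j
    rw [hab, hsum] at h1
    refine h1.trans ((Nat.add_le_add_right (ih _ (by have := he j; omega) b rfl) _).trans ?_)
    rw [add_assoc]
    refine Nat.add_le_add_left ?_ _
    set n := ∑ i, a i
    set m := ∑ i, b i
    have hm : m + 1 ≤ n := by have := he j; omega
    calc g * m * (m + 1) ^ t + g * (n + 1) ^ t
        ≤ g * m * (n + 1) ^ t + g * (n + 1) ^ t :=
          Nat.add_le_add_right (Nat.mul_le_mul_left _ (Nat.pow_le_pow_left (by omega) t)) _
      _ = g * (m + 1) * (n + 1) ^ t := by ring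
      _ ≤ g * n * (n + 1) ^ t := Nat.mul_le_mul_right _ (Nat.mul_le_mul_left _ hm)

/-- **The bound.** -/
theorem exists_bound {s : ℕ} {A : X.Modules} {L : Fin s → X.Modules} (hA : CohB1.IsAmple A)
    (hL : ∀ j, PicF.IsInvertible (L j)) :
    ∀ (r : ℕ) (F : X.Modules), Coh.IsCoh F →
      (∀ x ∈ CohB1.support F, VarDim.Basic.pdim (X ↘ Spec (CommRingCat.of k)) x < r) → ∀ i : ℕ,
      ∃ K : ℕ, (r = 0 → K = 0) ∧ ∀ a : Fin s → ℕ,
        hd k X (CohB1.tensorMod (FGA.multiTwist L a) F) i ≤ K * ((∑ j, a j) + 1) ^ (r - 1) := by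
  classical
  haveI := Curves.GlobalSections.isNoetherian_of_proper k X
  intro r
  induction r with
  | zero =>
    intro F hF hsmall i
    refine ⟨0, fun _ => rfl, fun a => ?_⟩
    have hz : IsZero (CohB1.tensorMod (FGA.multiTwist L a) F) := by
      rw [← Modules.Support.support_eq_empty_iff, Twist.support_twist (Poly.multiTwist_invertible hL a)]
      exact Set.eq_empty_iff_forall_notMem.2 fun y hy => Nat.not_lt_zero _ (hsmall y hy)
    haveI : Subsingleton (Coh.HH X (CohB1.tensorMod (FGA.multiTwist L a) F) i) :=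
      subsingleton_HH_isZero (k := k) hz i
    simp [hd, Module.finrank_zero_of_subsingleton]
  | succ r ih =>
    intro F hF hsmall i
    haveI := hF.2
    have hT : IsClosed (CohB1.support F) := Modules.Support.isClosed_support F
    let Z : Set X := {x | x ∈ CohB1.support F ∧ ∀ z ∈ CohB1.support F, z ⤳ x → z = x} ∪
      {y | Curv2.IsAssPoint F y}
    have hZ : Z.Finite := (Devissage.Dim.finite_maximal hT).union (UnifReg.Hyperplane.finite_assPoints hF)
    choose N e C sC u he hC hsZ huZ hiC using fun j =>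
      exists_avoiding_pair (k := k) hA (hL j) hZ
    have key : ∀ {P : X.Modules} (hP : PicF.IsInvertible P) (t : Coh.structureModule X ⟶ P),
        Z ⊆ CohB1.genLocus P t → ∃ (Q : X.Modules) (φ : F ⟶ CohB1.tensorMod F P)
          (π : CohB1.tensorMod F P ⟶ Q) (w : φ ≫ π = 0), (ShortComplex.mk φ π w).ShortExact ∧
          Coh.IsCoh Q ∧ ∀ x ∈ CohB1.support Q, VarDim.Basic.pdim (X ↘ Spec (CommRingCat.of k)) x < r := by
      intro P hP t ht
      obtain ⟨Q, φ, π, w, hS, hQ, hsupp⟩ := exists_mulSeq hF hP t (fun y hy => ht (Or.inr hy))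
      refine ⟨Q, φ, π, w, hS, hQ, fun y hy => ?_⟩
      obtain ⟨h1, h2⟩ := hsupp y hy
      obtain ⟨z, hz, hzy, hmax⟩ := Ideal.Prime.exists_maximal_generization hT h2
      have hne : z ≠ y := fun e => h1 (ht (Or.inl (e ▸ ⟨hz, hmax⟩)))
      have hlt := VarDim.Basic.pdim_lt (X ↘ Spec (CommRingCat.of k)) hzy hne
      have := hsmall z hz
      omega
    have hstep : ∀ j, ∃ g : ℕ, (r = 0 → g = 0) ∧ ∀ a : Fin s → ℕ,
        hd k X (CohB1.tensorMod (FGA.multiTwist L (Function.update a j (a j + e j))) F) i ≤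
          hd k X (CohB1.tensorMod (FGA.multiTwist L a) F) i + g * ((∑ l, a l) + e j + 1) ^ (r - 1) := by
      intro j
      obtain ⟨Qs, φs, πs, ws, hSs, hQs, hQs'⟩ := key (hC j) (sC j) (hsZ j)
      obtain ⟨Qu, φu, πu, wu, hSu, hQu, hQu'⟩ := key (isInvertible_tensorPow hA.1 (N j)) (u j) (huZ j)
      obtain ⟨Ks, hKs0, hKs⟩ := ih Qs hQs hQs' (i - 1)
      obtain ⟨Ku, hKu0, hKu⟩ := ih Qu hQu hQu' i
      refine ⟨Ks + Ku, fun h => by rw [hKs0 h, hKu0 h], fun a => ?_⟩
      set a' := Function.update a j (a j + e j) with ha'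
      have hM' := Poly.multiTwist_invertible (L := L) hL a'
      have hM := Poly.multiTwist_invertible (L := L) hL a
      obtain ⟨b⟩ := exists_multiTwist_bump L a j (e j)
      obtain ⟨c⟩ := hiC j
      let eswap : CohB1.tensorMod (FGA.multiTwist L a') (CohB1.tensorMod F (C j)) ≅
          CohB1.tensorMod (FGA.multiTwist L a) (CohB1.tensorMod F (CohB1.tensorPow A (N j))) :=
        tensorIso (b ≪≫ comm _ _) (comm F (C j)) ≪≫ assoc _ _ _ ≪≫
          tensorIso (Iso.refl _) ((assoc _ _ _).symm ≪≫ tensorIso c (Iso.refl F) ≪≫ comm _ _)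
      have l1 := hd_left_le (k := k) (Twist.twistSeq_shortExact hM' hSs) (Twist.isCoh_twist hM' hF)
        (Twist.isCoh_twist hM' (isCoh_twist_right hF (hC j))) (Twist.isCoh_twist hM' hQs) i
      have l2 := hd_mid_le (k := k) (Twist.twistSeq_shortExact hM hSu) (Twist.isCoh_twist hM hF)
        (Twist.isCoh_twist hM (isCoh_twist_right hF (isInvertible_tensorPow hA.1 (N j))))
        (Twist.isCoh_twist hM hQu) i
      have hsum : ∑ l, a' l = (∑ l, a l) + e j := by
        rw [ha', Finset.sum_update_of_mem (Finset.mem_univ j),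
          ← Finset.add_sum_erase _ a (Finset.mem_univ j), Finset.sdiff_singleton_eq_erase]
        omega
      have h1 := hKs a'
      rw [hsum] at h1
      have h2 := (hKu a).trans (Nat.mul_le_mul_left Ku
        (Nat.pow_le_pow_left (show (∑ l, a l) + 1 ≤ (∑ l, a l) + e j + 1 by omega) (r - 1)))
      have hmid := (hd_congr (k := k) eswap i).le.trans l2
      exact le_trans (l1.trans (Nat.add_le_add hmid h1))
        (le_of_le_of_eq (Nat.add_le_add_right (Nat.add_le_add_left h2 _) _)
          (by rw [Nat.add_mul, Nat.add_assoc, Nat.add_comm (Ku * _)]; rfl))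
    choose g hg0 hg using hstep
    obtain ⟨B, hB⟩ := rec_bound (g := ∑ j, g j) (t := r - 1)
      (P := fun a => hd k X (CohB1.tensorMod (FGA.multiTwist L a) F) i) he (fun a j => (hg j a).trans
      (Nat.add_le_add_left (Nat.mul_le_mul_right _
        (Finset.single_le_sum (fun l _ => Nat.zero_le (g l)) (Finset.mem_univ j))) _))
    refine ⟨B + ∑ j, g j, fun h => absurd h r.succ_ne_zero, fun a => (hB a).trans ?_⟩
    rw [Nat.add_sub_cancel, add_mul B]
    refine add_le_add (Nat.le_mul_of_pos_right _ (pow_pos (Nat.succ_pos _) r)) ?_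
    cases r with
    | zero => simp [show (∑ j, g j) = 0 from Finset.sum_eq_zero fun j _ => hg0 j rfl]
    | succ r =>
      rw [Nat.add_sub_cancel, mul_assoc, pow_succ']
      exact Nat.mul_le_mul_left _ (Nat.mul_le_mul_right _ (Nat.le_succ _))

end Groth.Agent.Lib.MultiBound96
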