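import Groth.Agent.Lib.MultiBound96.Basic

/-!
# Lipschitz bounds for the cohomology of several twists at once
-/

set_option autoImplicit false
set_option linter.style.haveILetI false
set_option linter.unusedSectionVars false
universe u

open CategoryTheory CategoryTheory.Limits AlgebraicGeometry Filter

namespace Groth.Agent.Lib.MultiBound96

open Groth.Agent.Lib Groth.Agent.Lib.Snapper Groth.Agent.Lib.PosLin Groth.Agent.Lib.PosLin.CohBound
open Groth.Agent.Lib.TensorMod.Basic (tmap comm assoc tensorIso leftUnit rightUnit)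
open Groth.Agent.Lib.TensorMod.Invertible (isInvertible_tensorPow isInvertible_tensorMod)
open Groth.Agent.Lib.PosLin.SectionBound (isCoh_twist_right)

variable {k : Type u} [Field k] {X : Scheme.{u}} [X.Over (Spec (CommRingCat.of k))]
  [IsProper (X ↘ Spec (CommRingCat.of k))]

/-- The two-sided comparison, uniformly in several twists. -/
def NearM (k : Type u) [Field k] (X : Scheme.{u}) [X.Over (Spec (CommRingCat.of k))]
    (n : ℕ) {s : ℕ} (L : Fin s → X.Modules) (F G : X.Modules) (i : ℕ) : Prop :=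
  ∃ K : ℕ, (n = 0 → K = 0) ∧ ∀ a : Fin s → ℕ,
    hd k X (CohB1.tensorMod (FGA.multiTwist L a) F) i ≤
      hd k X (CohB1.tensorMod (FGA.multiTwist L a) G) i + K * ((∑ j, a j) + 1) ^ (n - 1) ∧
    hd k X (CohB1.tensorMod (FGA.multiTwist L a) G) i ≤
      hd k X (CohB1.tensorMod (FGA.multiTwist L a) F) i + K * ((∑ j, a j) + 1) ^ (n - 1)

variable [IsIntegral X] {n : ℕ} (hn : topologicalKrullDim X = n)
  {s : ℕ} {A : X.Modules} {L : Fin s → X.Modules} (hA : CohB1.IsAmple A)
  (hL : ∀ j, PicF.IsInvertible (L j))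

include hn hA hL

theorem nearM_mul {G B : X.Modules} (hG : PicF.IsInvertible G) (hB : PicF.IsInvertible B)
    (u : Coh.structureModule X ⟶ B) (hu : genericPoint X ∈ CohB1.genLocus B u) (i : ℕ) :
    NearM k X n L G (CohB1.tensorMod G B) i := by
  haveI := Curves.GlobalSections.isNoetherian_of_proper k X
  have hO := PicLoc.isInvertible_structureModule X
  haveI : Mono u := Curves.Positivity.mono_of_ne_zero hO hB
    (SurfInt.Pencil.ne_zero_of_mem_genLocus hB hu)
  let φ : G ⟶ CohB1.tensorMod G B := (UnifReg.Hyperplane.mulS u).app G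
  haveI : Mono φ := by
    haveI : Mono (tmap (𝟙 G) u) :=
      (Twist.twistSeq_shortExact hG (Devissage.Basic.exists_ses_mono u)).mono_f
    exact inferInstanceAs (Mono ((rightUnit _).inv ≫ tmap (𝟙 G) u))
  have hGc := Ample.GG.isCoh_of_isInvertible hG
  have hGB := isCoh_twist_right hGc hB
  have hQ : Coh.IsCoh (cokernel φ) := CohBasics.Closure.isCoh_cokernel φ hGc.1 hGB
  have hs : ∀ x ∈ CohB1.support (cokernel φ), VarDim.Basic.pdim (X ↘ Spec (CommRingCat.of k)) x < n :=
    fun x hx => AsympTwist.pdim_lt_of_ne (k := k) hn fun e =>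
      (UnifReg.Hyperplane.support_coker u G hx).1 (by rw [e]; exact hu)
  obtain ⟨K, hK0, hK⟩ := exists_bound (k := k) hA hL n _ hQ hs i
  obtain ⟨K', hK0', hK'⟩ := exists_bound (k := k) hA hL n _ hQ hs (i - 1)
  have hS := Devissage.Basic.exists_ses_mono φ
  refine ⟨K + K', fun h => by rw [hK0 h, hK0' h], fun a => ?_⟩
  have hM := Poly.multiTwist_invertible (L := L) hL a
  have h1 := hd_left_le (k := k) (Twist.twistSeq_shortExact hM hS) (Twist.isCoh_twist hM hGc)
    (Twist.isCoh_twist hM hGB) (Twist.isCoh_twist hM hQ) i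
  have h2 := hd_mid_le (k := k) (Twist.twistSeq_shortExact hM hS) (Twist.isCoh_twist hM hGc)
    (Twist.isCoh_twist hM hGB) (Twist.isCoh_twist hM hQ) i
  exact ⟨h1.trans (Nat.add_le_add_left ((hK' a).trans (Nat.mul_le_mul_right _ (Nat.le_add_left _ K))) _),
    h2.trans (Nat.add_le_add_left ((hK a).trans (Nat.mul_le_mul_right _ (Nat.le_add_right _ K'))) _)⟩

theorem nearM_structure {G : X.Modules} (hG : PicF.IsInvertible G) (i : ℕ) :
    NearM k X n L G (Coh.structureModule X) i := by
  haveI := Curves.GlobalSections.isNoetherian_of_proper k X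
  have hO := PicLoc.isInvertible_structureModule X
  obtain ⟨n₁, hn₁⟩ := Ample.GG.eventually_genAt_twist hA G (Ample.GG.isCoh_of_isInvertible hG)
  obtain ⟨n₂, hn₂⟩ := Ample.GG.eventually_genAt_twist hA (Coh.structureModule X)
    (Twist.isCoh_structureModule X)
  have hAN := isInvertible_tensorPow hA.1 (n₁ + n₂)
  have hGA := isInvertible_tensorMod hG hAN
  obtain ⟨u, hu⟩ := Ample.GG.exists_genLocus_of_genAt hGA (hn₁ _ (by omega) (genericPoint X))
  obtain ⟨t, ht⟩ := Ample.GG.exists_genLocus_of_genAt (isInvertible_tensorMod hO hAN)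
    (hn₂ (n₁ + n₂) (by omega) (genericPoint X))
  obtain ⟨K, hK0, hK⟩ := nearM_mul (k := k) hn hA hL hG hAN (t ≫ (leftUnit _).hom)
    (by rw [Ample.GenLocus.genLocus_comp_iso]; exact ht) i
  obtain ⟨K', hK0', hK'⟩ := nearM_mul (k := k) hn hA hL hO hGA u hu i
  refine ⟨K + K', fun h => by rw [hK0 h, hK0' h], fun a => ?_⟩
  have e := hd_congr (k := k) (A := CohB1.tensorMod (FGA.multiTwist L a)
      (CohB1.tensorMod (Coh.structureModule X) (CohB1.tensorMod G (CohB1.tensorPow A (n₁ + n₂)))))
    (tensorIso (Iso.refl _) (leftUnit _)) i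
  have h := hK a
  have h' := hK' a
  rw [e] at h'
  rw [Nat.add_mul]
  constructor <;> omega

theorem exists_step (i : ℕ) : ∃ g : ℕ, (n = 0 → g = 0) ∧ ∀ (a : Fin s → ℕ) (j : Fin s),
    hd k X (FGA.multiTwist L (Function.update a j (a j + 1))) i ≤
      hd k X (FGA.multiTwist L a) i + g * ((∑ l, a l) + 1) ^ (n - 1) ∧
    hd k X (FGA.multiTwist L a) i ≤
      hd k X (FGA.multiTwist L (Function.update a j (a j + 1))) i + g * ((∑ l, a l) + 1) ^ (n - 1) := by
  choose K hK0 hK using fun j => nearM_structure (k := k) hn hA hL (hL j) i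
  refine ⟨∑ j, K j, fun h => Finset.sum_eq_zero fun j _ => hK0 j h, fun a j => ?_⟩
  obtain ⟨b⟩ := exists_multiTwist_bump L a j 1
  have h1 : hd k X (CohB1.tensorMod (FGA.multiTwist L a) (L j)) i =
      hd k X (FGA.multiTwist L (Function.update a j (a j + 1))) i :=
    hd_congr (k := k) (comm _ _ ≪≫ tensorIso (Ample.Pow.powOne (L j)).symm (Iso.refl _) ≪≫ b.symm) i
  have h2 : hd k X (CohB1.tensorMod (FGA.multiTwist L a) (Coh.structureModule X)) i =
      hd k X (FGA.multiTwist L a) i := hd_congr (k := k) (rightUnit _) i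
  have h := hK j a
  rw [h1, h2] at h
  have hle := Nat.mul_le_mul_right (((∑ l, a l) + 1) ^ (n - 1))
    (Finset.single_le_sum (fun l _ => Nat.zero_le (K l)) (Finset.mem_univ j))
  exact ⟨h.1.trans (Nat.add_le_add_left hle _), h.2.trans (Nat.add_le_add_left hle _)⟩

omit hn hA hL in
/-- Walking up in the exponents. -/
theorem path_bound {P : (Fin s → ℕ) → ℕ} {g t : ℕ}
    (h : ∀ a j, P (Function.update a j (a j + 1)) ≤ P a + g * ((∑ l, a l) + 1) ^ t ∧
      P a ≤ P (Function.update a j (a j + 1)) + g * ((∑ l, a l) + 1) ^ t)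
    (b : Fin s → ℕ) : ∀ (D : ℕ) (c : Fin s → ℕ), b ≤ c → ∑ l, c l = (∑ l, b l) + D →
      P c ≤ P b + g * D * ((∑ l, c l) + 1) ^ t ∧ P b ≤ P c + g * D * ((∑ l, c l) + 1) ^ t := by
  classical
  intro D
  induction D with
  | zero =>
    intro c hbc hs
    have : b = c := funext fun l => by
      by_contra hne
      have := Finset.sum_lt_sum (fun l _ => hbc l) ⟨l, Finset.mem_univ l, lt_of_le_of_ne (hbc l) hne⟩
      omega
    subst this
    exact ⟨Nat.le_add_right _ _, Nat.le_add_right _ _⟩
  | succ D ih =>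
    intro c hbc hs
    obtain ⟨j, hj⟩ : ∃ j, b j < c j := by
      by_contra hcon
      push Not at hcon
      have := Finset.sum_le_sum (s := Finset.univ) fun l _ => hcon l
      omega
    set c' := Function.update c j (c j - 1) with hc'
    have hcc : Function.update c' j (c' j + 1) = c := by
      rw [hc', Function.update_self, Function.update_idem, Nat.sub_add_cancel (by omega),
        Function.update_eq_self]
    have hsum : (∑ l, c' l) + 1 = ∑ l, c l := by
      rw [hc', Finset.sum_update_of_mem (Finset.mem_univ j), Finset.sdiff_singleton_eq_erase,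
        ← Finset.add_sum_erase _ c (Finset.mem_univ j)]
      omega
    have hbc' : b ≤ c' := fun l => by
      by_cases hl : l = j
      · subst hl; rw [hc', Function.update_self]; (show b l ≤ c l - 1); omega
      · rw [hc', Function.update_of_ne hl]; exact hbc l
    obtain ⟨h1, h2⟩ := ih c' hbc' (by omega)
    obtain ⟨h3, h4⟩ := h c' j
    rw [hcc] at h3 h4
    have hle : ((∑ l, c' l) + 1) ^ t ≤ ((∑ l, c l) + 1) ^ t := Nat.pow_le_pow_left (by omega) t
    have h5 := Nat.mul_le_mul_left (g * D) hle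
    have h6 := Nat.mul_le_mul_left g hle
    rw [Nat.mul_add, Nat.mul_one, Nat.add_mul]
    constructor <;> omega

/-- **Lipschitz bound.** -/
theorem exists_lip (i : ℕ) : ∃ g : ℕ, (n = 0 → g = 0) ∧ ∀ a b : Fin s → ℕ,
    hd k X (FGA.multiTwist L a) i ≤ hd k X (FGA.multiTwist L b) i +
      g * (∑ l, ((a l - b l) + (b l - a l))) * ((∑ l, a l) + (∑ l, b l) + 1) ^ (n - 1) := by
  obtain ⟨g, hg0, hg⟩ := exists_step (k := k) hn hA hL i
  refine ⟨g, hg0, fun a b => ?_⟩
  set c : Fin s → ℕ := fun l => min (a l) (b l) with hc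
  have h1 := (path_bound (P := fun a => hd k X (FGA.multiTwist L a) i) hg c (∑ l, (a l - b l)) a
    (fun l => min_le_left _ _) (by rw [hc, ← Finset.sum_add_distrib]; exact Finset.sum_congr rfl fun l _ => by omega)).1
  have h2 := (path_bound (P := fun a => hd k X (FGA.multiTwist L a) i) hg c (∑ l, (b l - a l)) b
    (fun l => min_le_right _ _) (by rw [hc, ← Finset.sum_add_distrib]; exact Finset.sum_congr rfl fun l _ => by omega)).2
  have h3 := Nat.mul_le_mul_left (g * ∑ l, (a l - b l))
    (Nat.pow_le_pow_left (show (∑ l, a l) + 1 ≤ (∑ l, a l) + (∑ l, b l) + 1 by omega) (n - 1))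
  have h4 := Nat.mul_le_mul_left (g * ∑ l, (b l - a l))
    (Nat.pow_le_pow_left (show (∑ l, b l) + 1 ≤ (∑ l, a l) + (∑ l, b l) + 1 by omega) (n - 1))
  rw [Finset.sum_add_distrib, Nat.mul_add, Nat.add_mul]
  omega

end Groth.Agent.Lib.MultiBound96
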