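import Groth.Agent.Lib.MultiBound96.Lip

/-!
# Powers of integral twists
-/

set_option autoImplicit false
set_option linter.style.haveILetI false
set_option linter.unusedSectionVars false
universe u

open CategoryTheory CategoryTheory.Limits AlgebraicGeometry Filter

namespace Groth.Agent.Lib.MultiBound96

open Groth.Agent.Lib Groth.Agent.Lib.PosLin Groth.Agent.Lib.PosLin.CohBound
open Groth.Agent.Lib.TensorMod.Basic (tensorIso rightUnit leftUnit assoc comm)

/-- Joining two families. -/
theorem exists_multiTwist_append {X : Scheme.{u}} {s t : ℕ} (L : Fin s → X.Modules) (M : Fin t → X.Modules)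
    (b : Fin s → ℕ) (c : Fin t → ℕ) :
    Nonempty (FGA.multiTwist (Fin.append L M) (Fin.append b c) ≅
      CohB1.tensorMod (FGA.multiTwist L b) (FGA.multiTwist M c)) := by
  have h : (fun i => CohB1.tensorPow (Fin.append L M i) (Fin.append b c i)) =
      Fin.append (fun i => CohB1.tensorPow (L i) (b i)) (fun i => CohB1.tensorPow (M i) (c i)) := by
    funext i
    induction i using Fin.addCases with
    | left i => simp
    | right i => simp
  obtain ⟨e⟩ := exists_tensorList_append
    ((List.finRange s).map fun i => CohB1.tensorPow (L i) (b i))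
    ((List.finRange t).map fun i => CohB1.tensorPow (M i) (c i))
  exact ⟨eqToIso (by
    unfold FGA.multiTwist
    rw [h, ← List.ofFn_eq_map, List.ofFn_fin_append, List.ofFn_eq_map, List.ofFn_eq_map]) ≪≫ e⟩

/-- Sums over a concatenated family. -/
theorem sum_append {s t : ℕ} (b : Fin s → ℕ) (c : Fin t → ℕ) :
    ∑ j, Fin.append b c j = (∑ j, b j) + ∑ j, c j := by
  simp [Fin.sum_univ_add]


/-- An inverse of an invertible module is invertible. -/
theorem isInvertible_inverse {X : Scheme.{u}} {L M : X.Modules} (hL : PicF.IsInvertible L)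
    (hM : ClSub.IsInverseOf L M) : PicF.IsInvertible M := by
  obtain ⟨e⟩ := hM
  exact TensorMod.Invertible.isInvertible_of_iso
    ((rightUnit _).symm ≪≫ tensorIso (Iso.refl _) e.symm ≪≫ (assoc _ _ _).symm ≪≫
      tensorIso (comm _ _ ≪≫ TensorMod.Invertible.tensorDualIso hL) (Iso.refl _) ≪≫ leftUnit _)
    (TensorMod.Invertible.isInvertible_dual hL)

theorem isInvertible_append {X : Scheme.{u}} {r : ℕ} {L M : Fin r → X.Modules}
    (hL : ∀ j, PicF.IsInvertible (L j)) (hM : ∀ j, ClSub.IsInverseOf (L j) (M j)) :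
    ∀ j, PicF.IsInvertible (Fin.append L M j) := fun j => by
  induction j using Fin.addCases with
  | left j => rw [Fin.append_left]; exact hL j
  | right j => rw [Fin.append_right]; exact isInvertible_inverse (hL j) (hM j)

/-- The exponents of the `m`-th power of an integral twist, in the doubled family. -/
def dbl {r : ℕ} (a : Fin r → ℤ) (m : ℕ) : Fin (r + r) → ℕ :=
  Fin.append (fun j => (a j).toNat * m) (fun j => (-(a j)).toNat * m)

/-- `Σ |a_j|`. -/
def absSum {r : ℕ} (a : Fin r → ℤ) : ℕ := ∑ j, (a j).natAbs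

theorem sum_dbl {r : ℕ} (a : Fin r → ℤ) (m : ℕ) : ∑ l, dbl a m l = absSum a * m := by
  rw [dbl, sum_append, ← Finset.sum_add_distrib, absSum, Finset.sum_mul]
  refine Finset.sum_congr rfl fun j _ => ?_
  rw [← Nat.add_mul]
  congr 1
  omega

theorem sum_dbl_dist {r : ℕ} (a b : Fin r → ℤ) (m : ℕ) :
    ∑ l, ((dbl a m l - dbl b m l) + (dbl b m l - dbl a m l)) = absSum (a - b) * m := by
  rw [absSum, Finset.sum_mul, Fin.sum_univ_add, ← Finset.sum_add_distrib]
  refine Finset.sum_congr rfl fun j _ => ?_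
  simp only [dbl, Fin.append_left, Fin.append_right, Pi.sub_apply, ← Nat.sub_mul, ← Nat.add_mul]
  congr 1
  omega

theorem hd_ztwist_pow {k : Type u} [Field k] {X : Scheme.{u}} [X.Over (Spec (CommRingCat.of k))]
    [IsProper (X ↘ Spec (CommRingCat.of k))] {r : ℕ} (L M : Fin r → X.Modules) (a : Fin r → ℤ) (m i : ℕ) :
    hd k X (CohB1.tensorPow (W4c5asymptcohfn.ztwist X L M a) m) i =
      hd k X (FGA.multiTwist (Fin.append L M) (dbl a m)) i := by
  obtain ⟨e1⟩ := exists_pow_multiTwist L (fun j => (a j).toNat) m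
  obtain ⟨e2⟩ := exists_pow_multiTwist M (fun j => (-(a j)).toNat) m
  obtain ⟨e3⟩ := exists_multiTwist_append L M (fun j => (a j).toNat * m) (fun j => (-(a j)).toNat * m)
  exact hd_congr (k := k) (Ample.Pow.powTensor _ _ m ≪≫ tensorIso e1 e2 ≪≫ e3.symm) i

/-- `|Σ a_j|` against the norm. -/
theorem absSum_le {r : ℕ} (a : Fin r → ℤ) :
    (absSum a : ℝ) ≤ (r : ℝ) * ‖(fun j => ((a j : ℤ) : ℝ))‖ := by
  rw [absSum, Nat.cast_sum]
  calc ∑ j, ((a j).natAbs : ℝ) ≤ ∑ _j : Fin r, ‖(fun j => ((a j : ℤ) : ℝ))‖ := by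
        refine Finset.sum_le_sum fun j _ => le_trans (le_of_eq ?_) (norm_le_pi_norm (fun j => ((a j : ℤ) : ℝ)) j)
        rw [Real.norm_eq_abs, Nat.cast_natAbs, Int.cast_abs]
    _ = (r : ℝ) * ‖(fun j => ((a j : ℤ) : ℝ))‖ := by simp

end Groth.Agent.Lib.MultiBound96
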